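import Groth.Agent.LocalCrit.Flatness
import Mathlib.LinearAlgebra.Finsupp.LinearCombination
import Mathlib.RingTheory.Flat.Basic

/-!
# The kernel of `M ⊗ I R' → M ⊗ R'` when `M / I M` is flat over `R / I`
-/

set_option autoImplicit false

universe u

open TensorProduct

noncomputable section

namespace Groth.Agent.TorZero

variable {R R' : Type u} [CommRing R] [CommRing R'] [Algebra R R'] (I : Ideal R)

/-- `a ↦ r a`. -/
def mulInto (r : R') : I →ₗ[R] I.map (algebraMap R R') where
  toFun a := ⟨r * algebraMap R R' a, Ideal.mul_mem_left _ _ (Ideal.mem_map_of_mem _ a.2)⟩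
  map_add' a b := Subtype.ext (by simp [mul_add])
  map_smul' c a := Subtype.ext (by simp [Algebra.smul_def, mul_left_comm])

variable {F : Type u} [AddCommGroup F] [Module R F]

/-- The map `I ⊗ F → F`. -/
def act : I ⊗[R] F →ₗ[R] F := (TensorProduct.lid R F).toLinearMap ∘ₗ I.subtype.rTensor F

omit [Algebra R R'] [CommRing R'] in
theorem act_tmul (a : I) (f : F) : act I (a ⊗ₜ f) = (a : R) • f := rfl

variable (π : F →ₗ[R] R')

theorem act_value_mem (z : I ⊗[R] F) : π (act I z) ∈ I.map (algebraMap R R') := by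
  induction z using TensorProduct.induction_on with
  | zero => rw [map_zero, map_zero]; exact zero_mem _
  | add x y hx hy => rw [map_add, map_add]; exact add_mem hx hy
  | tmul a f =>
    rw [act_tmul, map_smul, Algebra.smul_def]
    exact Ideal.mul_mem_right _ _ (Ideal.mem_map_of_mem _ a.2)

/-- The map `I ⊗ F → I R'`. -/
def cover : I ⊗[R] F →ₗ[R] I.map (algebraMap R R') where
  toFun z := ⟨π (act I z), act_value_mem I π z⟩
  map_add' x y := Subtype.ext (by simp)
  map_smul' c x := Subtype.ext (by simp)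

theorem cover_surjective (hπ : Function.Surjective π) : Function.Surjective (cover I π) := by
  suffices h : ∀ x ∈ I.map (algebraMap R R'), ∀ r : R', ∃ z, π (act I z) = r * x by
    intro x
    obtain ⟨z, hz⟩ := h (x : R') x.2 1
    exact ⟨z, Subtype.ext (hz.trans (one_mul _))⟩
  intro x hx
  refine Submodule.span_induction ?_ (fun r => ⟨0, by simp⟩) (fun a b _ _ ha hb r => ?_) (fun c a _ ha r => ?_) hx
  · rintro _ ⟨a, ha, rfl⟩ r
    obtain ⟨f, rfl⟩ := hπ r
    refine ⟨(⟨a, ha⟩ : I) ⊗ₜ f, ?_⟩
    rw [act_tmul, map_smul, Algebra.smul_def, mul_comm]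
  · obtain ⟨z, hz⟩ := ha r
    obtain ⟨z', hz'⟩ := hb r
    exact ⟨z + z', by rw [map_add, map_add, hz, hz', mul_add]⟩
  · obtain ⟨z, hz⟩ := ha (r * c)
    exact ⟨z, by rw [hz, smul_eq_mul, mul_assoc]⟩

/-- The statement for a flat cover of `R'`. -/
theorem mem_span_aux [Module.Flat R F] (hπ : Function.Surjective π) {M : Type u} [AddCommGroup M] [Module R M]
    (hK : LocalCrit.KeepsInjective I M) (y : M ⊗[R] I.map (algebraMap R R'))
    (hy : ((I.map (algebraMap R R')).subtype.restrictScalars R).lTensor M y = 0) :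
    y ∈ Submodule.span R {z | ∃ (r : R') (κ : M ⊗[R] I), I.subtype.lTensor M κ = 0 ∧ z = (mulInto I r).lTensor M κ} := by
  let ψ : I ⊗[R] F →ₗ[R] F := act I
  let P := LinearMap.ker (π ∘ₗ ψ)
  let L := LinearMap.ker π
  let T := LinearMap.range ψ
  let ψP : P →ₗ[R] L := (ψ ∘ₗ P.subtype).codRestrict L fun z => z.2
  let U := LinearMap.range ψP
  obtain ⟨ê, rfl⟩ := LinearMap.lTensor_surjective M (cover_surjective I π hπ) y
  have h1 : π.lTensor M (ψ.lTensor M ê) = 0 := by
    rw [← LinearMap.comp_apply, ← LinearMap.lTensor_comp]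
    rw [← LinearMap.comp_apply, ← LinearMap.lTensor_comp] at hy
    exact hy
  obtain ⟨l, hl⟩ := ((lTensor_exact (R := R) (M := ↥L) (N := F) (P := R') M (f := L.subtype) (g := π)
    (LinearMap.exact_subtype_ker_map π) hπ) _).1 h1
  have hUT : U ≤ T.comap L.subtype := by
    rintro _ ⟨z, rfl⟩
    exact ⟨z, rfl⟩
  let g : (↥L ⧸ U) →ₗ[R] F ⧸ T := Submodule.mapQ U T L.subtype hUT
  have hg : Function.Injective g := by
    rw [← LinearMap.ker_eq_bot, eq_bot_iff]
    intro x hx
    obtain ⟨x, rfl⟩ := U.mkQ_surjective x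
    obtain ⟨z, hz⟩ := (Submodule.Quotient.mk_eq_zero T).1 (LinearMap.mem_ker.1 hx)
    have hzP : z ∈ P := by
      show π (ψ z) = 0
      rw [hz]; exact x.2
    exact (Submodule.mem_bot R).2 ((Submodule.Quotient.mk_eq_zero U).2 ⟨⟨z, hzP⟩, Subtype.ext hz⟩)
  have hT : Module.IsTorsionBySet R (F ⧸ T) I := by
    rintro x ⟨a, ha⟩
    obtain ⟨f, rfl⟩ := T.mkQ_surjective x
    rw [← map_smul, Submodule.mkQ_apply, Submodule.Quotient.mk_eq_zero]
    exact ⟨(⟨a, ha⟩ : I) ⊗ₜ f, rfl⟩
  have hT' : Module.IsTorsionBySet R (↥L ⧸ U) I := fun x a => hg (by rw [map_smul, map_zero]; exact @hT (g x) a)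
  have h2 : U.mkQ.lTensor M l = 0 := by
    refine (LinearMap.lTensor_inj_iff_rTensor_inj M g).2 (hK g hT' hT hg) ?_
    rw [map_zero, ← LinearMap.comp_apply, ← LinearMap.lTensor_comp, Submodule.mapQ_mkQ, LinearMap.lTensor_comp,
      LinearMap.comp_apply, hl, ← LinearMap.comp_apply, ← LinearMap.lTensor_comp,
      show T.mkQ ∘ₗ ψ = 0 from LinearMap.ext fun z => (Submodule.Quotient.mk_eq_zero T).2 ⟨z, rfl⟩,
      LinearMap.lTensor_zero, LinearMap.zero_apply]
  have hexU : Function.Exact ψP U.mkQ := fun z => Submodule.Quotient.mk_eq_zero U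
  have hsU : Function.Surjective U.mkQ := fun z => Submodule.Quotient.mk_surjective U z
  obtain ⟨p, rfl⟩ := ((lTensor_exact (R := R) (M := ↥P) (N := ↥L) (P := ↥L ⧸ U) M (f := ψP) (g := U.mkQ) hexU hsU) l).1 h2
  let K := LinearMap.ker ((TensorProduct.rid R M).toLinearMap ∘ₗ I.subtype.lTensor M)
  let assocE := TensorProduct.assoc R M I F
  let d := ê - P.subtype.lTensor M p
  have hd : ψ.lTensor M d = 0 := by
    rw [map_sub, ← hl, sub_eq_zero, ← LinearMap.comp_apply, ← LinearMap.lTensor_comp, ← LinearMap.comp_apply,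
      ← LinearMap.lTensor_comp]
    rfl
  have hcov : (cover I π).lTensor M (P.subtype.lTensor M p) = 0 := by
    rw [← LinearMap.comp_apply, ← LinearMap.lTensor_comp,
      show cover I π ∘ₗ P.subtype = 0 from LinearMap.ext fun z => Subtype.ext z.2, LinearMap.lTensor_zero,
      LinearMap.zero_apply]
  have hψ : ∀ w : (M ⊗[R] I) ⊗[R] F, ψ.lTensor M (assocE w) =
      ((TensorProduct.rid R M).toLinearMap ∘ₗ I.subtype.lTensor M).rTensor F w := by
    intro w
    induction w using TensorProduct.induction_on with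
    | zero => simp
    | add a b ha hb => simp only [map_add, ha, hb]
    | tmul x f =>
      induction x using TensorProduct.induction_on with
      | zero => simp
      | add a b ha hb => simp only [add_tmul, map_add, ha, hb]
      | tmul m a => simp [assocE, ψ, act_tmul, smul_tmul]
  obtain ⟨k, hk⟩ := ((Module.Flat.rTensor_exact F
    (LinearMap.exact_subtype_ker_map ((TensorProduct.rid R M).toLinearMap ∘ₗ I.subtype.lTensor M))) (assocE.symm d)).1 (by
      rw [← hψ, assocE.apply_symm_apply, hd])
  have hd' : d = assocE (K.subtype.rTensor F k) := by rw [hk, assocE.apply_symm_apply]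
  have hyd : (cover I π).lTensor M ê = (cover I π).lTensor M d := by rw [map_sub, hcov, sub_zero]
  rw [hyd, hd']
  clear hk hd'
  induction k using TensorProduct.induction_on with
  | zero => simp
  | add a b ha hb => simp only [map_add]; exact add_mem ha hb
  | tmul κ f =>
    refine Submodule.subset_span ⟨π f, (κ : M ⊗[R] I), ?_, ?_⟩
    · exact (TensorProduct.rid R M).map_eq_zero_iff.1 κ.2
    · have hsimp : ∀ x : M ⊗[R] I, (cover I π).lTensor M (assocE (x ⊗ₜ f)) = (mulInto I (π f)).lTensor M x := by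
        intro x
        induction x using TensorProduct.induction_on with
        | zero => simp
        | add a b ha hb => simp only [add_tmul, map_add, ha, hb]
        | tmul m a =>
          show m ⊗ₜ cover I π (a ⊗ₜ f) = m ⊗ₜ mulInto I (π f) a
          congr 1
          refine Subtype.ext ?_
          show π (act I (a ⊗ₜ f)) = π f * algebraMap R R' a
          rw [act_tmul, map_smul, Algebra.smul_def, mul_comm]
      rw [LinearMap.rTensor_tmul]
      exact hsimp _

/-- Elements of `M ⊗ I R'` vanishing in `M ⊗ R'` come from the kernel of `M ⊗ I → M`. -/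
theorem mem_span_of_lTensor_eq_zero {M : Type u} [AddCommGroup M] [Module R M]
    (hK : LocalCrit.KeepsInjective I M) (y : M ⊗[R] I.map (algebraMap R R'))
    (hy : ((I.map (algebraMap R R')).subtype.restrictScalars R).lTensor M y = 0) :
    y ∈ Submodule.span R {z | ∃ (r : R') (κ : M ⊗[R] I), I.subtype.lTensor M κ = 0 ∧ z = (mulInto I r).lTensor M κ} :=
  mem_span_aux I (Finsupp.linearCombination R (id : R' → R'))
    (fun r => ⟨Finsupp.single r 1, (Finsupp.linearCombination_single R 1 r).trans (one_smul R r)⟩) hK y hy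

end Groth.Agent.TorZero
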