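import Groth.Agent.EssFPDescent.Model
import Groth.Agent.LocalCrit.Flatness

/-!
# Base change and localisation of the input of the local criterion
-/

set_option autoImplicit false
set_option backward.isDefEq.respectTransparency false

universe u

open TensorProduct
attribute [local instance] Algebra.TensorProduct.rightAlgebra

noncomputable section

namespace Groth.Agent.TorZero

/-- `KeepsInjective` is inherited by base change. -/
theorem keepsInjective_baseChange {R R' : Type u} [CommRing R] [CommRing R'] [Algebra R R'] (I : Ideal R)
    {M : Type u} [AddCommGroup M] [Module R M] (hK : LocalCrit.KeepsInjective I M) :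
    LocalCrit.KeepsInjective (I.map (algebraMap R R')) (R' ⊗[R] M) := by
  intro N N' _ _ _ _ g hN hN' hg
  letI : Module R N := Module.compHom N (algebraMap R R')
  haveI : IsScalarTower R R' N := IsScalarTower.of_algebraMap_smul fun r x => rfl
  letI : Module R N' := Module.compHom N' (algebraMap R R')
  haveI : IsScalarTower R R' N' := IsScalarTower.of_algebraMap_smul fun r x => rfl
  let e : ∀ (P : Type u) [AddCommGroup P] [Module R P] [Module R' P] [IsScalarTower R R' P],
      P ⊗[R'] (R' ⊗[R] M) ≃ₗ[R] P ⊗[R] M := fun P _ _ _ _ =>
    (AlgebraTensorModule.cancelBaseChange R R' R' P M).restrictScalars R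
  have h1 : Function.Injective ((g.restrictScalars R).rTensor M) :=
    hK (g.restrictScalars R) (fun x a => @hN x ⟨algebraMap R R' a, Ideal.mem_map_of_mem _ a.2⟩)
      (fun x a => @hN' x ⟨algebraMap R R' a, Ideal.mem_map_of_mem _ a.2⟩) hg
  have h2 : ∀ x, e N' (g.rTensor _ x) = (g.restrictScalars R).rTensor M (e N x) := by
    intro x
    induction x using TensorProduct.induction_on with
    | zero => simp
    | add a b ha hb => simp only [map_add, ha, hb]
    | tmul n y =>
      induction y using TensorProduct.induction_on with
      | zero => simp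
      | add a b ha hb => simp only [tmul_add, map_add, ha, hb]
      | tmul r m => simp [e]
  intro x y hxy
  have h3 := congrArg (e N') hxy
  rw [h2, h2] at h3
  exact (e N).injective (h1 h3)

/-- `KeepsInjective` along a linear equivalence. -/
theorem keepsInjective_equiv {A : Type u} [CommRing A] (I : Ideal A) {P Q : Type u} [AddCommGroup P] [Module A P]
    [AddCommGroup Q] [Module A Q] (e : P ≃ₗ[A] Q) (h : LocalCrit.KeepsInjective I P) : LocalCrit.KeepsInjective I Q := by
  intro N N' _ _ _ _ g hN hN' hg
  have h1 := h g hN hN' hg
  have h2 : ∀ x, (e.lTensor N') (g.rTensor P x) = g.rTensor Q (e.lTensor N x) := by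
    intro x
    induction x using TensorProduct.induction_on with
    | zero => simp
    | add a b ha hb => simp only [map_add, ha, hb]
    | tmul n y => rfl
  intro x y hxy
  obtain ⟨x, rfl⟩ := (e.lTensor N).surjective x
  obtain ⟨y, rfl⟩ := (e.lTensor N).surjective y
  rw [← h2, ← h2] at hxy
  exact congrArg _ (h1 ((e.lTensor N').injective hxy))

/-- Injectivity after tensoring passes to localisations. -/
theorem lTensor_injective_localized {A S : Type u} [CommRing A] [CommRing S] [Algebra A S] (W : Submonoid S)
    {M M' : Type u} [AddCommGroup M] [Module A M] [Module S M] [IsScalarTower A S M]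
    [AddCommGroup M'] [Module A M'] [Module S M'] [IsScalarTower A S M'] (f : M →ₗ[S] M') [IsLocalizedModule W f]
    {N N' : Type u} [AddCommGroup N] [Module A N] [AddCommGroup N'] [Module A N'] (g : N →ₗ[A] N')
    (h : Function.Injective (g.lTensor M)) : Function.Injective (g.lTensor M') := by
  rw [injective_iff_map_eq_zero]
  let φ : M ⊗[A] N →ₗ[S] M' ⊗[A] N := AlgebraTensorModule.rTensor A N f
  let ψ : M ⊗[A] N' →ₗ[S] M' ⊗[A] N' := AlgebraTensorModule.rTensor A N' f
  let G := AlgebraTensorModule.lTensor S M g
  let G' := AlgebraTensorModule.lTensor S M' g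
  have hcomm : ∀ y, G' (φ y) = ψ (G y) := by
    intro y
    induction y using TensorProduct.induction_on with
    | zero => simp
    | tmul m n => simp [φ, ψ, G, G']
    | add y z hy hz => simp only [map_add, hy, hz]
  intro z hz
  obtain ⟨⟨y, s⟩, hys⟩ := IsLocalizedModule.surj W φ z
  have hys' : (s : S) • z = φ y := hys
  have h1 : ψ (G y) = 0 := by
    rw [← hcomm, ← hys', map_smul, show G' z = 0 from hz, smul_zero]
  obtain ⟨t, ht⟩ := (IsLocalizedModule.eq_zero_iff W ψ).1 h1
  have h2 : (t : S) • y = 0 := h (by
    show G ((t : S) • y) = g.lTensor M 0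
    rw [map_smul, map_zero]
    exact ht)
  have h3 : ((t * s : W) : S) • z = 0 := by
    rw [Submonoid.coe_mul, mul_smul, hys', ← map_smul, h2, map_zero]
  exact ((Module.End.isUnit_iff _).1 (IsLocalizedModule.map_units φ (t * s))).1 (h3.trans (map_zero _).symm)

open EssFPDescent in
/-- `M ⊗ R'` over `S ⊗ R'` as the base change `R' ⊗ M`. -/
def commCT {R : Type u} [CommRing R] (S : Type u) [CommRing S] [Algebra R S] (M : Type u) [AddCommGroup M]
    [Module R M] [Module S M] [IsScalarTower R S M] (R' : Type u) [CommRing R'] [Algebra R R'] :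
    R' ⊗[R] M ≃ₗ[R'] CT (R₀ := R) S M R' where
  toFun x := toCT (R₀ := R) S M (A := R') (TensorProduct.comm R R' M x)
  invFun x := (TensorProduct.comm R R' M).symm (show M ⊗[R] R' from x)
  map_add' x y := (congrArg (toCT (R₀ := R) S M (A := R')) (map_add _ x y))
  map_smul' a x := by
    rw [RingHom.id_apply]
    induction x using TensorProduct.induction_on with
    | zero =>
      rw [smul_zero, map_zero]
      exact (smul_zero (A := CT (R₀ := R) S M R') a).symm
    | add x y hx hy =>
      rw [smul_add, map_add, map_add]
      exact (congrArg₂ (· + ·) hx hy).trans (smul_add a (toCT (R₀ := R) S M (A := R') _) (toCT (R₀ := R) S M (A := R') _)).symm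
    | tmul r m =>
      rw [smul_tmul', TensorProduct.comm_tmul, TensorProduct.comm_tmul, smul_toCT]
      rfl
  left_inv x := (TensorProduct.comm R R' M).symm_apply_apply x
  right_inv x := (TensorProduct.comm R R' M).apply_symm_apply _

end Groth.Agent.TorZero
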